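import Mathlib.CategoryTheory.Monoidal.Tor
import Mathlib.Algebra.Category.ModuleCat.Monoidal.Symmetric
import Mathlib.Algebra.Category.ModuleCat.Projective
import Mathlib.CategoryTheory.Abelian.Projective.Resolution
import Mathlib.Algebra.Homology.ShortComplex.ModuleCat
import Mathlib.RingTheory.Flat.Basic
import Mathlib.LinearAlgebra.TensorProduct.RightExactness

/-!
# Vanishing of `Tor₁` through a projective presentation
-/

set_option autoImplicit false

universe u

open CategoryTheory CategoryTheory.Limits TensorProduct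
open scoped MonoidalCategory

namespace Groth.Agent.TorOne

variable {R : Type u} [CommRing R] {M : Type u} [AddCommGroup M] [Module R M]

/-- For a projective presentation `g : F → M` the injectivity of `N ⊗ ker g → N ⊗ F` does not depend
on the presentation. -/
theorem injective_of_presentation (N : Type*) [AddCommGroup N] [Module R N]
    {F F' : Type u} [AddCommGroup F] [Module R F] [Module.Projective R F]
    [AddCommGroup F'] [Module R F'] [Module.Projective R F']
    (g : F →ₗ[R] M) (hg : Function.Surjective g) (g' : F' →ₗ[R] M) (hg' : Function.Surjective g')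
    (h : Function.Injective ((LinearMap.ker g').subtype.lTensor N)) :
    Function.Injective ((LinearMap.ker g).subtype.lTensor N) := by
  obtain ⟨a, ha⟩ := Module.projective_lifting_property g' g hg'
  obtain ⟨b, hb⟩ := Module.projective_lifting_property g g' hg
  have hak : ∀ x ∈ LinearMap.ker g, a x ∈ LinearMap.ker g' := fun x hx => by
    rw [LinearMap.mem_ker, ← LinearMap.comp_apply, ha]; exact hx
  have hbk : ∀ x ∈ LinearMap.ker g', b x ∈ LinearMap.ker g := fun x hx => by
    rw [LinearMap.mem_ker, ← LinearMap.comp_apply, hb]; exact hx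
  let d : F →ₗ[R] LinearMap.ker g := LinearMap.codRestrict _ (b ∘ₗ a - LinearMap.id) fun x => by
    rw [LinearMap.mem_ker, LinearMap.sub_apply, map_sub, LinearMap.id_apply, ← LinearMap.comp_apply g,
      ← LinearMap.comp_assoc, hb, ha, sub_self]
  rw [injective_iff_map_eq_zero]
  intro z hz
  have h1 : (a.restrict hak).lTensor N z = 0 := h (by
    rw [map_zero, ← LinearMap.comp_apply, ← LinearMap.lTensor_comp, LinearMap.subtype_comp_restrict,
      LinearMap.domRestrict, LinearMap.lTensor_comp, LinearMap.comp_apply, hz, map_zero])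
  have h2 : (b.restrict hbk ∘ₗ a.restrict hak) - d ∘ₗ (LinearMap.ker g).subtype = LinearMap.id :=
    LinearMap.ext fun x => Subtype.ext (show b (a x) - (b (a x) - (x : F)) = x by abel)
  rw [← LinearMap.id_apply (R := R) z, ← LinearMap.lTensor_id, ← h2, LinearMap.lTensor_sub,
    LinearMap.sub_apply, LinearMap.lTensor_comp, LinearMap.lTensor_comp, LinearMap.comp_apply,
    LinearMap.comp_apply, h1, hz, map_zero, map_zero, sub_zero]

/-- `Tor₁(N, M) = 0` iff `N ⊗ K → N ⊗ F` is injective, for a projective presentation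
`0 → K → F → M → 0`. -/
theorem isZero_tor_one_iff (N : Type u) [AddCommGroup N] [Module R N]
    {F : Type u} [AddCommGroup F] [Module R F] [Module.Projective R F]
    (g : F →ₗ[R] M) (hg : Function.Surjective g) :
    IsZero (((Tor (ModuleCat.{u} R) 1).obj (ModuleCat.of R N)).obj (ModuleCat.of R M)) ↔
      Function.Injective ((LinearMap.ker g).subtype.lTensor N) := by
  let P := projectiveResolution (ModuleCat.of R M)
  let Fn := (MonoidalCategory.tensoringLeft (ModuleCat.{u} R)).obj (ModuleCat.of R N)
  let d₂ := (P.complex.d 2 1).hom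
  let d₁ := (P.complex.d 1 0).hom
  let π : P.complex.X 0 →ₗ[R] M := (P.π.f 0).hom
  have hπ : Function.Surjective π :=
    (ModuleCat.epi_iff_surjective (P.π.f 0)).mp inferInstance
  haveI : Module.Projective R (P.complex.X 0) :=
    haveI := P.projective 0
    (IsProjective.iff_projective (P.complex.X 0)).mpr this
  have hex1 : LinearMap.range d₂ = LinearMap.ker d₁ :=
    (P.exact_succ 0).moduleCat_range_eq_ker
  have hex0 : LinearMap.range d₁ = LinearMap.ker π :=
    (ShortComplex.exact_of_g_is_cokernel (ShortComplex.mk _ _ P.complex_d_comp_π_f_zero)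
      P.isColimitCokernelCofork).moduleCat_range_eq_ker
  let e : P.complex.X 1 →ₗ[R] LinearMap.ker π :=
    d₁.codRestrict _ fun x => hex0 ▸ LinearMap.mem_range_self d₁ x
  have he : Function.Surjective e := fun ⟨y, hy⟩ => by
    obtain ⟨x, rfl⟩ := hex0.symm ▸ hy
    exact ⟨x, rfl⟩
  have hexe : Function.Exact d₂ e := LinearMap.exact_iff.mpr (by
    rw [LinearMap.ker_codRestrict, hex1])
  have hexN := lTensor_exact N hexe he
  change IsZero ((Fn.leftDerived 1).obj (ModuleCat.of R M)) ↔ _
  rw [(P.isoLeftDerivedObj Fn 1).isZero_iff]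
  refine Iff.trans (HomologicalComplex.exactAt_iff_isZero_homology _ _).symm ?_
  rw [HomologicalComplex.exactAt_iff' _ 2 1 0 (by simp) (by simp), ShortComplex.moduleCat_exact_iff]
  change (∀ z : N ⊗[R] P.complex.X 1, d₁.lTensor N z = 0 → ∃ w, d₂.lTensor N w = z) ↔ _
  have key : Function.Injective ((LinearMap.ker π).subtype.lTensor N) ↔
      Function.Injective ((LinearMap.ker g).subtype.lTensor N) :=
    ⟨injective_of_presentation N g hg π hπ, injective_of_presentation N π hπ g hg⟩
  rw [← key]
  have hd : d₁.lTensor N = (LinearMap.ker π).subtype.lTensor N ∘ₗ e.lTensor N := by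
    rw [← LinearMap.lTensor_comp]; rfl
  constructor
  · intro h
    rw [injective_iff_map_eq_zero]
    intro y hy
    obtain ⟨z, rfl⟩ := LinearMap.lTensor_surjective N he y
    exact (hexN z).mpr (h z (by rw [hd, LinearMap.comp_apply, hy]))
  · intro h z hz
    refine (hexN z).mp (h ?_)
    rw [map_zero]
    rwa [hd] at hz

section Closure

variable {F : Type u} [AddCommGroup F] [Module R F] {K : Submodule R F}

/-- Vanishing passes to extensions. -/
theorem injective_of_exact {N₁ N₂ N₃ : Type*} [AddCommGroup N₁] [Module R N₁] [AddCommGroup N₂] [Module R N₂]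
    [AddCommGroup N₃] [Module R N₃] [Module.Flat R F] (i : N₁ →ₗ[R] N₂) (p : N₂ →ₗ[R] N₃)
    (hi : Function.Injective i) (hip : Function.Exact i p) (hp : Function.Surjective p)
    (h₁ : Function.Injective (K.subtype.lTensor N₁)) (h₃ : Function.Injective (K.subtype.lTensor N₃)) :
    Function.Injective (K.subtype.lTensor N₂) := by
  rw [injective_iff_map_eq_zero]
  intro z hz
  have h0 : p.rTensor K z = 0 := h₃ (by
    rw [map_zero, ← LinearMap.comp_apply, LinearMap.lTensor_comp_rTensor, ← LinearMap.rTensor_comp_lTensor,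
      LinearMap.comp_apply, hz, map_zero])
  obtain ⟨y, rfl⟩ := ((rTensor_exact K hip hp) z).mp h0
  have hy : i.rTensor F (K.subtype.lTensor N₁ y) = 0 := by
    rw [← hz, ← LinearMap.comp_apply, ← LinearMap.comp_apply, LinearMap.rTensor_comp_lTensor,
      LinearMap.lTensor_comp_rTensor]
  have hy' : K.subtype.lTensor N₁ y = 0 :=
    Module.Flat.rTensor_preserves_injective_linearMap i hi (hy.trans (map_zero _).symm)
  rw [h₁ (hy'.trans (map_zero _).symm), map_zero]

/-- Vanishing passes to quotients `N` of `N₂` by `N₁` when `N₁ ⊗ M → N₂ ⊗ M` is injective. -/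
theorem injective_of_quotient {N₁ N₂ N₃ : Type*} [AddCommGroup N₁] [Module R N₁] [AddCommGroup N₂] [Module R N₂]
    [AddCommGroup N₃] [Module R N₃] (g : F →ₗ[R] M) (hg : Function.Surjective g) (hK : LinearMap.ker g = K)
    (i : N₁ →ₗ[R] N₂) (p : N₂ →ₗ[R] N₃) (hip : Function.Exact i p) (hp : Function.Surjective p)
    (hM : Function.Injective (i.rTensor M)) (h₂ : Function.Injective (K.subtype.lTensor N₂)) :
    Function.Injective (K.subtype.lTensor N₃) := by
  subst hK
  rw [injective_iff_map_eq_zero]
  intro z hz
  obtain ⟨w, rfl⟩ := LinearMap.rTensor_surjective (LinearMap.ker g) hp z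
  have hw : p.rTensor F ((LinearMap.ker g).subtype.lTensor N₂ w) = 0 := by
    rw [← hz, ← LinearMap.comp_apply, ← LinearMap.comp_apply, LinearMap.rTensor_comp_lTensor,
      LinearMap.lTensor_comp_rTensor]
  obtain ⟨y, hy⟩ := ((rTensor_exact F hip hp) _).mp hw
  have hex := lTensor_exact N₁ (LinearMap.exact_subtype_ker_map g) hg
  have hy' : g.lTensor N₁ y = 0 := hM (by
    rw [map_zero, ← LinearMap.comp_apply, LinearMap.rTensor_comp_lTensor, ← LinearMap.lTensor_comp_rTensor,
      LinearMap.comp_apply, hy]
    exact (lTensor_exact N₂ (LinearMap.exact_subtype_ker_map g) hg _).mpr ⟨w, rfl⟩)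
  obtain ⟨v, rfl⟩ := (hex y).mp hy'
  have hwv : w = i.rTensor (LinearMap.ker g) v := h₂ (by
    rw [← hy, ← LinearMap.comp_apply, ← LinearMap.comp_apply, LinearMap.rTensor_comp_lTensor,
      LinearMap.lTensor_comp_rTensor])
  rw [hwv, ← LinearMap.comp_apply, ← LinearMap.rTensor_comp, hip.linearMap_comp_eq_zero,
    LinearMap.rTensor_zero, LinearMap.zero_apply]

end Closure

end Groth.Agent.TorOne
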